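import Cfsg.Agent.H72.EPX.Tr
import Cfsg.Agent.H999.PslGraphOdd

/-!
# A conjugate of a symmetric form with small common stabiliser (S3499, class 8, helper72)

`B` symmetric, `n ≥ 3`, `q` odd: there is `Y` of determinant one with `Yᵀ B Y = B c`, `c` of prime order irreducible and
self-adjoint; the common similarities of `B` and `B c` are, modulo scalars, a group of order at most two.
-/

set_option autoImplicit false
set_option linter.unusedSectionVars false

namespace Cfsg.Agent.H72.EPX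

open Matrix Module

section diag

variable {F : Type*} [Field F] {n : ℕ}

/-- the matrix `T diag(ε) T⁻¹` -/
def eT (T : GL (Fin n) F) (ε : Fin n → F) (hε : ∀ i, ε i * ε i = 1) : GL (Fin n) F :=
  T * ⟨diagonal ε, diagonal ε, by rw [diagonal_mul_diagonal, ← diagonal_one]; congr 1; funext i; exact hε i, by
    rw [diagonal_mul_diagonal, ← diagonal_one]; congr 1; funext i; exact hε i⟩ * T⁻¹

theorem coe_eT (T : GL (Fin n) F) (ε : Fin n → F) (hε : ∀ i, ε i * ε i = 1) :
    (eT T ε hε : Matrix (Fin n) (Fin n) F) = T * diagonal ε * ((T⁻¹ : GL (Fin n) F) : Matrix (Fin n) (Fin n) F) := rfl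

theorem mul_inv_val (T : GL (Fin n) F) : (T : Matrix (Fin n) (Fin n) F) * ((T⁻¹ : GL (Fin n) F) : Matrix (Fin n) (Fin n) F) = 1 := by
  rw [← Units.val_mul, mul_inv_cancel, Units.val_one]

theorem inv_mul_val (T : GL (Fin n) F) : ((T⁻¹ : GL (Fin n) F) : Matrix (Fin n) (Fin n) F) * (T : Matrix (Fin n) (Fin n) F) = 1 := by
  rw [← Units.val_mul, inv_mul_cancel, Units.val_one]

theorem det_ne (T : GL (Fin n) F) : (T : Matrix (Fin n) (Fin n) F).det ≠ 0 := by
  have h := congrArg Matrix.det (mul_inv_val T)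
  rw [det_mul, det_one] at h
  exact left_ne_zero_of_mul_eq_one h

theorem det_eT (T : GL (Fin n) F) (ε : Fin n → F) (hε : ∀ i, ε i * ε i = 1) :
    (eT T ε hε : Matrix (Fin n) (Fin n) F).det = ∏ i, ε i := by
  rw [coe_eT, det_mul, det_mul, det_diagonal, mul_comm (T : Matrix (Fin n) (Fin n) F).det, mul_assoc, ← det_mul,
    mul_inv_val, det_one, mul_one]

theorem eT_mul (T : GL (Fin n) F) (ε ε' : Fin n → F) (hε : ∀ i, ε i * ε i = 1) (hε' : ∀ i, ε' i * ε' i = 1) :
    eT T ε hε * eT T ε' hε' = eT T (fun i => ε i * ε' i) (fun i => by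
      rw [show ε i * ε' i * (ε i * ε' i) = (ε i * ε i) * (ε' i * ε' i) by ring, hε, hε', one_mul]) := by
  apply Units.ext
  rw [Units.val_mul, coe_eT, coe_eT, coe_eT, ← diagonal_mul_diagonal]
  calc _ = (T : Matrix (Fin n) (Fin n) F) * diagonal ε * (((T⁻¹ : GL (Fin n) F) : Matrix (Fin n) (Fin n) F) * T) *
      diagonal ε' * ((T⁻¹ : GL (Fin n) F) : Matrix (Fin n) (Fin n) F) := by simp only [Matrix.mul_assoc]
    _ = _ := by rw [inv_mul_val, Matrix.mul_one]; simp only [Matrix.mul_assoc]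

theorem eT_sq (T : GL (Fin n) F) (ε : Fin n → F) (hε : ∀ i, ε i * ε i = 1) : eT T ε hε * eT T ε hε = 1 := by
  rw [eT_mul]
  apply Units.ext
  rw [coe_eT, Units.val_one]
  have : (fun i => ε i * ε i) = 1 := funext hε
  rw [this, diagonal_one', Matrix.mul_one, mul_inv_val]

theorem eT_comm (T : GL (Fin n) F) (ε ε' : Fin n → F) (hε : ∀ i, ε i * ε i = 1) (hε' : ∀ i, ε' i * ε' i = 1) :
    eT T ε hε * eT T ε' hε' = eT T ε' hε' * eT T ε hε := by
  rw [eT_mul, eT_mul]
  congr 1
  funext i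
  exact mul_comm _ _

theorem eT_isom {B : Matrix (Fin n) (Fin n) F} (T : GL (Fin n) F) {d : Fin n → F}
    (hT : (T : Matrix (Fin n) (Fin n) F)ᵀ * B * T = diagonal d) (ε : Fin n → F) (hε : ∀ i, ε i * ε i = 1) :
    (eT T ε hε : Matrix (Fin n) (Fin n) F)ᵀ * B * eT T ε hε = B := by
  rw [coe_eT, transpose_mul, transpose_mul, diagonal_transpose]
  have e1 : (((T⁻¹ : GL (Fin n) F) : Matrix (Fin n) (Fin n) F)ᵀ * (diagonal ε * (T : Matrix (Fin n) (Fin n) F)ᵀ)) * B *
      (T * diagonal ε * ((T⁻¹ : GL (Fin n) F) : Matrix (Fin n) (Fin n) F)) =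
      ((T⁻¹ : GL (Fin n) F) : Matrix (Fin n) (Fin n) F)ᵀ * (diagonal ε * ((T : Matrix (Fin n) (Fin n) F)ᵀ * B * T) *
      diagonal ε) * ((T⁻¹ : GL (Fin n) F) : Matrix (Fin n) (Fin n) F) := by simp only [Matrix.mul_assoc]
  rw [e1, hT, diagonal_mul_diagonal, diagonal_mul_diagonal]
  have e2 : (fun i => ε i * d i * ε i) = d := by
    funext i
    rw [show ε i * d i * ε i = (ε i * ε i) * d i by ring, hε, one_mul]
  rw [e2, ← hT]
  have e3 : ((T⁻¹ : GL (Fin n) F) : Matrix (Fin n) (Fin n) F)ᵀ * ((T : Matrix (Fin n) (Fin n) F)ᵀ * B * T) *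
      ((T⁻¹ : GL (Fin n) F) : Matrix (Fin n) (Fin n) F) =
      ((T : Matrix (Fin n) (Fin n) F) * ((T⁻¹ : GL (Fin n) F) : Matrix (Fin n) (Fin n) F))ᵀ * B *
      ((T : Matrix (Fin n) (Fin n) F) * ((T⁻¹ : GL (Fin n) F) : Matrix (Fin n) (Fin n) F)) := by
    rw [transpose_mul]
    simp only [Matrix.mul_assoc]
  rw [e3, mul_inv_val, transpose_one, Matrix.one_mul, Matrix.mul_one]

/-- `T diag(ε) T⁻¹` is scalar only if `ε` is constant -/
theorem eT_scalar (T : GL (Fin n) F) (ε : Fin n → F) (hε : ∀ i, ε i * ε i = 1) {c : F}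
    (h : (eT T ε hε : Matrix (Fin n) (Fin n) F) = c • (1 : Matrix (Fin n) (Fin n) F)) (i : Fin n) : ε i = c := by
  have e : diagonal ε = c • (1 : Matrix (Fin n) (Fin n) F) := by
    have h1 : ((T⁻¹ : GL (Fin n) F) : Matrix (Fin n) (Fin n) F) * (eT T ε hε : Matrix (Fin n) (Fin n) F) * T =
        diagonal ε := by
      rw [coe_eT]
      calc _ = (((T⁻¹ : GL (Fin n) F) : Matrix (Fin n) (Fin n) F) * T) * diagonal ε *
          (((T⁻¹ : GL (Fin n) F) : Matrix (Fin n) (Fin n) F) * T) := by simp only [Matrix.mul_assoc]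
        _ = _ := by rw [inv_mul_val, Matrix.one_mul, Matrix.mul_one]
    rw [← h1, h, Matrix.mul_smul, Matrix.mul_one, Matrix.smul_mul, inv_mul_val]
  have := congrFun (congrFun e i) i
  rwa [diagonal_apply_eq, Matrix.smul_apply, one_apply_eq, smul_eq_mul, mul_one] at this

end diag

section pair

variable {F : Type*} [Field F] [Fintype F]

theorem two_ne (hodd : Odd (Fintype.card F)) : (2 : F) ≠ 0 := by
  intro h
  have h1 : ringChar F ∣ 2 := ringChar.dvd (by exact_mod_cast h)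
  have hp : (ringChar F).Prime := CharP.char_is_prime F _
  have h2 : ringChar F = 2 := (Nat.prime_dvd_prime_iff_eq hp Nat.prime_two).1 h1
  have h3 := FiniteField.even_card_of_char_two h2
  rcases hodd with ⟨k, hk⟩
  omega

theorem exists_pair (hodd : Odd (Fintype.card F)) {n : ℕ} (hn : 3 ≤ n) (B : GL (Fin n) F)
    (hB : (B : Matrix (Fin n) (Fin n) F)ᵀ = B) :
    ∃ (Y : GL (Fin n) F) (c : Matrix (Fin n) (Fin n) F), (Y : Matrix (Fin n) (Fin n) F).det = 1 ∧
      (Y : Matrix (Fin n) (Fin n) F)ᵀ * B * Y = B * c ∧ (∀ μ : F, c ≠ μ • (1 : Matrix (Fin n) (Fin n) F)) ∧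
      ∀ g g' : GL (Fin n) F,
        (∃ μ : F, (g : Matrix (Fin n) (Fin n) F)ᵀ * B * g = μ • (B : Matrix (Fin n) (Fin n) F)) →
        (∃ ν : F, (g : Matrix (Fin n) (Fin n) F)ᵀ * (B * c) * g = ν • (B * c : Matrix (Fin n) (Fin n) F)) →
        (∃ μ : F, (g' : Matrix (Fin n) (Fin n) F)ᵀ * B * g' = μ • (B : Matrix (Fin n) (Fin n) F)) →
        (∃ ν : F, (g' : Matrix (Fin n) (Fin n) F)ᵀ * (B * c) * g' = ν • (B * c : Matrix (Fin n) (Fin n) F)) →
        (∀ r : F, (g : Matrix (Fin n) (Fin n) F) ≠ r • (1 : Matrix (Fin n) (Fin n) F)) →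
        (∀ r : F, (g' : Matrix (Fin n) (Fin n) F) ≠ r • (1 : Matrix (Fin n) (Fin n) F)) →
        ∃ r : F, (g' : Matrix (Fin n) (Fin n) F) = r • (g : Matrix (Fin n) (Fin n) F) := by
  have h2 : (2 : F) ≠ 0 := two_ne hodd
  obtain ⟨K, _, _, _, hKf, β, z, R, hR, hz, hzR, hz0, hcop⟩ := exists_field F hn hodd
  have : Fintype K := Fintype.ofFinite K
  obtain ⟨a, ha⟩ := FiniteField.norm_surjective F K ((Gm β 1).det * (B : Matrix (Fin n) (Fin n) F).det)
  have hBd := det_ne B
  have ha0 : a ≠ 0 := by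
    intro h
    rw [h, Algebra.norm_zero] at ha
    exact mul_ne_zero (det_Gm_one β) hBd ha.symm
  have hGa : (Gm β a).det ≠ 0 := det_Gm_ne β ha0
  let G0 : GL (Fin n) F := Matrix.GeneralLinearGroup.mkOfDetNeZero (Gm β a) hGa
  have hG0 : (G0 : Matrix (Fin n) (Fin n) F) = Gm β a := rfl
  obtain ⟨P, hP⟩ := Cfsg.Agent.H999.PslGraphOdd.exists_congr_of_disc h2 (by omega) G0 B (by rw [hG0, Gm_transpose]) hB (by
    rw [hG0, det_Gm, ha]
    exact ⟨(Gm β 1).det * (B : Matrix (Fin n) (Fin n) F).det, by ring⟩)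
  rw [hG0] at hP
  -- the element `c`
  let L : K → Matrix (Fin n) (Fin n) F := fun b => ((P⁻¹ : GL (Fin n) F) : Matrix (Fin n) (Fin n) F) *
    Algebra.leftMulMatrix β b * P
  have hBL : ∀ b, (B : Matrix (Fin n) (Fin n) F) * L b = (P : Matrix (Fin n) (Fin n) F)ᵀ * Gm β (a * b) * P := by
    intro b
    rw [hP, ← Gm_mul]
    calc _ = (P : Matrix (Fin n) (Fin n) F)ᵀ * Gm β a * ((P : Matrix (Fin n) (Fin n) F) *
        ((P⁻¹ : GL (Fin n) F) : Matrix (Fin n) (Fin n) F)) * Algebra.leftMulMatrix β b * P := by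
          simp only [L, Matrix.mul_assoc]
      _ = _ := by rw [mul_inv_val, Matrix.mul_one]; simp only [Matrix.mul_assoc]
  have hLmul : ∀ b b', L b * L b' = L (b * b') := by
    intro b b'
    calc L b * L b' = ((P⁻¹ : GL (Fin n) F) : Matrix (Fin n) (Fin n) F) * Algebra.leftMulMatrix β b *
        ((P : Matrix (Fin n) (Fin n) F) * ((P⁻¹ : GL (Fin n) F) : Matrix (Fin n) (Fin n) F)) *
        Algebra.leftMulMatrix β b' * P := by simp only [L, Matrix.mul_assoc]
      _ = _ := by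
        rw [mul_inv_val, Matrix.mul_one]
        simp only [L]
        rw [map_mul]
        simp only [Matrix.mul_assoc]
  have hLalg : ∀ r : F, L (algebraMap F K r) = r • (1 : Matrix (Fin n) (Fin n) F) := by
    intro r
    simp only [L]
    rw [AlgHom.commutes, Algebra.algebraMap_eq_smul_one, Matrix.mul_smul, Matrix.mul_one, Matrix.smul_mul, inv_mul_val]
  have hPL : ∀ b, (P : Matrix (Fin n) (Fin n) F) * L b * ((P⁻¹ : GL (Fin n) F) : Matrix (Fin n) (Fin n) F) =
      Algebra.leftMulMatrix β b := by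
    intro b
    calc _ = ((P : Matrix (Fin n) (Fin n) F) * ((P⁻¹ : GL (Fin n) F) : Matrix (Fin n) (Fin n) F)) *
        Algebra.leftMulMatrix β b * ((P : Matrix (Fin n) (Fin n) F) * ((P⁻¹ : GL (Fin n) F) : Matrix (Fin n) (Fin n) F)) := by
          simp only [L, Matrix.mul_assoc]
      _ = _ := by rw [mul_inv_val, Matrix.mul_one, Matrix.one_mul]
  have hLinj : ∀ b b', L b = L b' → b = b' := by
    intro b b' h
    apply Algebra.leftMulMatrix_injective β
    rw [← hPL, ← hPL, h]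
  have hLsmul : ∀ (r : F) b, L (algebraMap F K r * b) = r • L b := by
    intro r b
    rw [← hLmul, hLalg, Matrix.smul_mul, Matrix.one_mul]
  have hLpow : ∀ b (k : ℕ), L b ^ k = L (b ^ k) := by
    intro b k
    induction k with
    | zero =>
      rw [pow_zero, pow_zero, ← map_one (algebraMap F K), hLalg, one_smul]
    | succ k ih => rw [pow_succ, pow_succ, ih, hLmul]
  -- norm one
  have hNz : Algebra.norm F z = 1 := by
    have h1 : (Algebra.norm F z) ^ R = 1 := by rw [← map_pow, hzR, map_one]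
    have h3 : Algebra.norm F z ≠ 0 := fun h => hz0 (Algebra.norm_eq_zero_iff.1 h)
    have h4 := FiniteField.pow_card_sub_one_eq_one _ h3
    have h5 := pow_gcd_eq_one.2 ⟨h1, h4⟩
    rwa [hcop.gcd_eq_one, pow_one] at h5
  have hLdet : (L z).det = 1 := by
    simp only [L]
    rw [det_mul, det_mul, mul_comm (det ((P⁻¹ : GL (Fin n) F) : Matrix (Fin n) (Fin n) F)), mul_assoc, ← det_mul,
      inv_mul_val, det_one, mul_one, ← Algebra.norm_eq_matrix_det β, hNz]
  have hBcT : ((B : Matrix (Fin n) (Fin n) F) * L z)ᵀ = B * L z := by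
    rw [hBL, transpose_mul, transpose_mul, Gm_transpose, transpose_transpose]
    simp only [Matrix.mul_assoc]
  have hBcd : ((B : Matrix (Fin n) (Fin n) F) * L z).det ≠ 0 := by
    rw [det_mul, hLdet, mul_one]
    exact hBd
  let B1 : GL (Fin n) F := Matrix.GeneralLinearGroup.mkOfDetNeZero _ hBcd
  have hB1 : (B1 : Matrix (Fin n) (Fin n) F) = B * L z := rfl
  obtain ⟨Y0, hY0⟩ := Cfsg.Agent.H999.PslGraphOdd.exists_congr_of_disc h2 (by omega) B B1 hB (by rw [hB1, hBcT]) (by
    rw [hB1, det_mul, hLdet, mul_one]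
    exact ⟨_, rfl⟩)
  rw [hB1] at hY0
  have hY0d : (Y0 : Matrix (Fin n) (Fin n) F).det = 1 ∨ (Y0 : Matrix (Fin n) (Fin n) F).det = -1 := by
    have h3 := congrArg Matrix.det hY0
    rw [det_mul (B : Matrix (Fin n) (Fin n) F) (L z), hLdet, mul_one, det_mul, det_mul, det_transpose] at h3
    have h4 : (Y0 : Matrix (Fin n) (Fin n) F).det * (Y0 : Matrix (Fin n) (Fin n) F).det = 1 := by
      apply mul_left_cancel₀ hBd
      linear_combination -h3
    exact mul_self_eq_one_iff.1 h4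
  -- a reflection
  obtain ⟨T, hT⟩ : ∃ (T : GL (Fin n) F), ∃ d : Fin n → F, (T : Matrix (Fin n) (Fin n) F)ᵀ * B * T = diagonal d := by
    let d : Fin n → F := Function.update 1 ⟨0, by omega⟩ (B : Matrix (Fin n) (Fin n) F).det
    have hd : ∀ i, d i ≠ 0 := by
      intro i
      by_cases hi : i = ⟨0, by omega⟩
      · subst hi
        simp only [d, Function.update_self]
        exact hBd
      · simp only [d, Function.update_of_ne hi, Pi.one_apply]
        exact one_ne_zero
    obtain ⟨T, hT⟩ := Cfsg.Agent.H999.PslGraphOdd.exists_diag h2 B hB d hd 1 (by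
      simp only [d]
      rw [Finset.prod_update_of_mem (Finset.mem_univ _)]
      simp)
    exact ⟨T, d, hT⟩
  obtain ⟨d, hT⟩ := hT
  obtain ⟨Y, hYd, hY⟩ : ∃ Y : GL (Fin n) F, (Y : Matrix (Fin n) (Fin n) F).det = 1 ∧
      (Y : Matrix (Fin n) (Fin n) F)ᵀ * B * Y = B * L z := by
    rcases hY0d with h | h
    · exact ⟨Y0, h, hY0.symm⟩
    · let ε : Fin n → F := Function.update 1 ⟨0, by omega⟩ (-1)
      have hε : ∀ i, ε i * ε i = 1 := by
        intro i
        by_cases hi : i = ⟨0, by omega⟩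
        · subst hi
          simp only [ε, Function.update_self]
          ring
        · simp only [ε, Function.update_of_ne hi, Pi.one_apply]
          ring
      refine ⟨eT T ε hε * Y0, ?_, ?_⟩
      · rw [Units.val_mul, det_mul, det_eT, h]
        simp only [ε]
        rw [Finset.prod_update_of_mem (Finset.mem_univ _)]
        simp
      · rw [Units.val_mul, transpose_mul, hY0]
        calc _ = (Y0 : Matrix (Fin n) (Fin n) F)ᵀ * ((eT T ε hε : Matrix (Fin n) (Fin n) F)ᵀ * B * eT T ε hε) * Y0 := by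
              simp only [Matrix.mul_assoc]
          _ = _ := by rw [eT_isom T hT]
  -- `z` is not in `F`
  have hzF : ∀ μ : F, z ≠ algebraMap F K μ := by
    intro μ h
    have h1 : (⊥ : Subalgebra F K) = ⊤ := by
      rw [← hz, h, Algebra.adjoin_singleton_algebraMap]
    have h3 : finrank F K = 1 := Subalgebra.bot_eq_top_iff_finrank_eq_one.1 h1
    have h4 := finrank_eq_card_basis β
    rw [Fintype.card_fin] at h4
    omega
  -- the structure of the good elements
  have key : ∀ g : GL (Fin n) F,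
      (∃ μ : F, (g : Matrix (Fin n) (Fin n) F)ᵀ * B * g = μ • (B : Matrix (Fin n) (Fin n) F)) →
      (∃ ν : F, (g : Matrix (Fin n) (Fin n) F)ᵀ * (B * L z) * g = ν • (B * L z : Matrix (Fin n) (Fin n) F)) →
      (∀ r : F, (g : Matrix (Fin n) (Fin n) F) ≠ r • (1 : Matrix (Fin n) (Fin n) F)) →
      ∃ (γ : K) (μ : F), (g : Matrix (Fin n) (Fin n) F) = L γ ∧ γ * γ = algebraMap F K μ ∧ ¬ IsSquare μ := by
    rintro g ⟨μ, hμ⟩ ⟨ν, hν⟩ hgs
    have hμ0 : μ ≠ 0 := by
      rintro rfl
      have h1 := congrArg Matrix.det hμ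
      have : Nonempty (Fin n) := ⟨⟨0, by omega⟩⟩
      rw [zero_smul, det_zero, det_mul, det_mul, det_transpose] at h1
      exact mul_ne_zero (mul_ne_zero (det_ne g) hBd) (det_ne g) h1
    -- `g⁻¹ c g = ρ c`
    have h3 : L z * g = (ν / μ) • ((g : Matrix (Fin n) (Fin n) F) * L z) := by
      have h4 : (g : Matrix (Fin n) (Fin n) F)ᵀ * B * (L z * g) =
          (g : Matrix (Fin n) (Fin n) F)ᵀ * B * ((ν / μ) • ((g : Matrix (Fin n) (Fin n) F) * L z)) := by
        have e1 : (g : Matrix (Fin n) (Fin n) F)ᵀ * B * (L z * g) = (g : Matrix (Fin n) (Fin n) F)ᵀ * (B * L z) * g := by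
          simp only [Matrix.mul_assoc]
        have e2 : (g : Matrix (Fin n) (Fin n) F)ᵀ * B * ((ν / μ) • ((g : Matrix (Fin n) (Fin n) F) * L z)) =
            (ν / μ) • (((g : Matrix (Fin n) (Fin n) F)ᵀ * B * g) * L z) := by
          rw [Matrix.mul_smul]
          simp only [Matrix.mul_assoc]
        rw [e1, e2, hν, hμ, Matrix.smul_mul, smul_smul, div_mul_cancel₀ _ hμ0]
      have hu : IsUnit ((g : Matrix (Fin n) (Fin n) F)ᵀ * B) := by
        rw [Matrix.isUnit_iff_isUnit_det, det_mul, det_transpose]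
        exact isUnit_iff_ne_zero.2 (mul_ne_zero (det_ne g) hBd)
      exact hu.mul_left_cancel h4
    set ρ := ν / μ with hρ
    have hpow : ∀ k : ℕ, L z ^ k * g = ρ ^ k • ((g : Matrix (Fin n) (Fin n) F) * L z ^ k) := by
      intro k
      induction k with
      | zero => rw [pow_zero, pow_zero, one_smul, Matrix.one_mul, Matrix.mul_one]
      | succ k ih =>
        rw [pow_succ, Matrix.mul_assoc, h3, Matrix.mul_smul, ← Matrix.mul_assoc, ih, Matrix.smul_mul, smul_smul,
          Matrix.mul_assoc, ← pow_succ, pow_succ' ρ]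
    have hρR : ρ ^ R = 1 := by
      have h5 := hpow R
      rw [hLpow, hzR, ← map_one (algebraMap F K), hLalg, one_smul, Matrix.one_mul, Matrix.mul_one] at h5
      have h6 := congrArg (fun M => M * ((g⁻¹ : GL (Fin n) F) : Matrix (Fin n) (Fin n) F)) h5
      simp only [Matrix.smul_mul, mul_inv_val] at h6
      have h7 := congrFun (congrFun h6 ⟨0, by omega⟩) ⟨0, by omega⟩
      rw [Matrix.smul_apply, one_apply_eq, smul_eq_mul, mul_one] at h7
      exact h7.symm
    have hρ0 : ρ ≠ 0 := by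
      intro h
      rw [h, zero_pow hR.ne_zero] at hρR
      exact zero_ne_one hρR
    have hρ1 : ρ = 1 := by
      have h5 := pow_gcd_eq_one.2 ⟨hρR, FiniteField.pow_card_sub_one_eq_one _ hρ0⟩
      rwa [hcop.gcd_eq_one, pow_one] at h5
    rw [hρ1, one_smul] at h3
    obtain ⟨γ, hγ⟩ := exists_of_comm β hz (T := (P : Matrix (Fin n) (Fin n) F) * g *
        ((P⁻¹ : GL (Fin n) F) : Matrix (Fin n) (Fin n) F)) (by
      rw [← hPL]
      calc _ = (P : Matrix (Fin n) (Fin n) F) * g * (((P⁻¹ : GL (Fin n) F) : Matrix (Fin n) (Fin n) F) *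
          (P : Matrix (Fin n) (Fin n) F)) * L z * ((P⁻¹ : GL (Fin n) F) : Matrix (Fin n) (Fin n) F) := by
            simp only [Matrix.mul_assoc]
        _ = (P : Matrix (Fin n) (Fin n) F) * ((g : Matrix (Fin n) (Fin n) F) * L z) *
          ((P⁻¹ : GL (Fin n) F) : Matrix (Fin n) (Fin n) F) := by
            rw [inv_mul_val, Matrix.mul_one]
            simp only [Matrix.mul_assoc]
        _ = (P : Matrix (Fin n) (Fin n) F) * L z * (((P⁻¹ : GL (Fin n) F) : Matrix (Fin n) (Fin n) F) *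
          (P : Matrix (Fin n) (Fin n) F)) * g * ((P⁻¹ : GL (Fin n) F) : Matrix (Fin n) (Fin n) F) := by
            rw [← h3, inv_mul_val, Matrix.mul_one]
            simp only [Matrix.mul_assoc]
        _ = _ := by simp only [Matrix.mul_assoc])
    have hgL : (g : Matrix (Fin n) (Fin n) F) = L γ := by
      simp only [L]
      rw [← hγ]
      calc (g : Matrix (Fin n) (Fin n) F) = (((P⁻¹ : GL (Fin n) F) : Matrix (Fin n) (Fin n) F) *
          (P : Matrix (Fin n) (Fin n) F)) * g * (((P⁻¹ : GL (Fin n) F) : Matrix (Fin n) (Fin n) F) *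
          (P : Matrix (Fin n) (Fin n) F)) := by rw [inv_mul_val, Matrix.mul_one, Matrix.one_mul]
        _ = _ := by simp only [Matrix.mul_assoc]
    have hγ2 : γ * γ = algebraMap F K μ := by
      rw [hgL] at hμ
      have e1 : (L γ)ᵀ * (B : Matrix (Fin n) (Fin n) F) = B * L γ := by
        have : (L γ)ᵀ * (B : Matrix (Fin n) (Fin n) F) = ((B : Matrix (Fin n) (Fin n) F) * L γ)ᵀ := by
          rw [transpose_mul (B : Matrix (Fin n) (Fin n) F) (L γ), hB]
        rw [this, hBL, transpose_mul, transpose_mul, Gm_transpose, transpose_transpose]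
        simp only [Matrix.mul_assoc]
      rw [e1, Matrix.mul_assoc, hLmul] at hμ
      have e2 : (B : Matrix (Fin n) (Fin n) F) * L (γ * γ) = B * L (algebraMap F K μ) := by
        rw [hμ, hLalg, Matrix.mul_smul, Matrix.mul_one]
      exact hLinj _ _ (B.isUnit.mul_left_cancel e2)
    refine ⟨γ, μ, hgL, hγ2, ?_⟩
    rintro ⟨s, hs⟩
    rw [hs, map_mul] at hγ2
    rcases mul_self_eq_mul_self_iff.1 hγ2 with h5 | h5
    · exact hgs s (by rw [hgL, h5, hLalg])
    · exact hgs (-s) (by rw [hgL, h5, ← map_neg, hLalg])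
  refine ⟨Y, L z, hYd, hY, ?_, ?_⟩
  · intro μ h
    rw [← hLalg] at h
    exact hzF μ (hLinj _ _ h)
  · intro g g' h1 h3 h1' h3' hs hs'
    obtain ⟨γ, μ, hg, hγ, hμ⟩ := key g h1 h3 hs
    obtain ⟨γ', μ', hg', hγ', hμ'⟩ := key g' h1' h3' hs'
    have hμ0 : μ ≠ 0 := fun h => hμ (h ▸ IsSquare.zero)
    have hγ0 : γ ≠ 0 := by
      rintro rfl
      rw [mul_zero] at hγ
      exact hμ0 ((map_eq_zero (algebraMap F K)).1 hγ.symm)
    have hμ'0 : μ' ≠ 0 := fun h => hμ' (h ▸ IsSquare.zero)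
    -- `μ μ'` is a square
    obtain ⟨s, hsq⟩ : IsSquare (μ * μ') := by
      classical
      have hch : ringChar F ≠ 2 := by
        intro h
        have h5 := FiniteField.even_card_of_char_two h
        rcases hodd with ⟨k, hk⟩
        omega
      rw [← quadraticChar_one_iff_isSquare (mul_ne_zero hμ0 hμ'0), map_mul,
        quadraticChar_neg_one_iff_not_isSquare.2 hμ, quadraticChar_neg_one_iff_not_isSquare.2 hμ']
      norm_num
    have h5 : (γ * γ') * (γ * γ') = algebraMap F K s * algebraMap F K s := by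
      rw [← map_mul, ← hsq, map_mul, ← hγ, ← hγ']
      ring
    have h6 : ∀ r : F, γ * γ' = algebraMap F K r → (g' : Matrix (Fin n) (Fin n) F) = (r / μ) • (g : Matrix (Fin n) (Fin n) F) := by
      intro r hr
      rw [hg, hg', ← hLsmul]
      congr 1
      apply mul_left_cancel₀ hγ0
      rw [hr, map_div₀, ← hγ]
      field_simp
    rcases mul_self_eq_mul_self_iff.1 h5 with h7 | h7
    · exact ⟨_, h6 s h7⟩
    · exact ⟨_, h6 (-s) (by rw [h7, map_neg])⟩

end pair

end Cfsg.Agent.H72.EPX
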