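import Cfsg.Agent.H419.EP.Iface
import Cfsg.Agent.H72.EPX.Sl

/-!
# S3499, class 8 in `SL_n(q)`: similarity groups of quadratic forms, `q` odd (helper72)
-/

set_option autoImplicit false
set_option linter.unusedSectionVars false

namespace Cfsg.Agent.H72.EPX

open Matrix Subgroup Cfsg.Agent.H284 Cfsg.Agent.H999.PslGraph Cfsg.Agent.H999.PslGraphOdd

section group

/-- two commuting involutions -/
theorem four_dvd {A : Type*} [Group A] [Finite A] {a b : A} (ha1 : a ≠ 1) (hb1 : b ≠ 1) (hab : a ≠ b)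
    (ha2 : a * a = 1) (hb2 : b * b = 1) (hc : a * b = b * a) : 4 ∣ Nat.card A := by
  have hoa : orderOf a = 2 := orderOf_eq_prime (by rw [pow_two, ha2]) ha1
  have hob : orderOf b = 2 := orderOf_eq_prime (by rw [pow_two, hb2]) hb1
  have hcomm : ∀ (m : zpowers a) (n : zpowers b), Commute ((zpowers a).subtype m) ((zpowers b).subtype n) := by
    rintro ⟨_, i, rfl⟩ ⟨_, j, rfl⟩
    exact (Commute.zpow_zpow (show Commute a b from hc) i j)
  have hinj : Function.Injective (MonoidHom.noncommCoprod (zpowers a).subtype (zpowers b).subtype hcomm) := by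
    rw [MonoidHom.noncommCoprod_injective]
    refine ⟨Subtype.val_injective, Subtype.val_injective, ?_⟩
    rw [Subgroup.range_subtype, Subgroup.range_subtype, Subgroup.disjoint_def]
    intro y hya hyb
    have h1 : ∀ {c : A}, c * c = 1 → y ∈ zpowers c → y = 1 ∨ y = c := by
      rintro c hc2 ⟨i, rfl⟩
      rcases Int.even_or_odd' i with ⟨k, rfl | rfl⟩
      · left
        show c ^ (2 * k) = 1
        rw [_root_.zpow_mul, zpow_two, hc2, _root_.one_zpow]
      · right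
        show c ^ (2 * k + 1) = c
        rw [_root_.zpow_add, _root_.zpow_mul, zpow_two, hc2, _root_.one_zpow, one_mul, _root_.zpow_one]
    rcases h1 ha2 hya with h | h
    · exact h
    · rcases h1 hb2 hyb with h' | h'
      · exact h'
      · exact absurd (h.symm.trans h') hab
  have h3 := Subgroup.card_dvd_of_injective _ hinj
  rwa [Nat.card_prod, Nat.card_zpowers, Nat.card_zpowers, hoa, hob] at h3

/-- **Kill criterion**: `A ∩ A^x` of order two and `4 ∣ |A|` -/
theorem kill_two {Q : Type*} [Group Q] [Finite Q] {A : Subgroup Q} {Γ : Subgroup (MulAut Q)} (h : EPT A Γ) {x : Q}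
    (hx : x ∉ A) (h1 : ∀ s ∈ A ⊓ cj x A, ∀ t ∈ A ⊓ cj x A, s ≠ 1 → t ≠ 1 → s = t) (h4 : 4 ∣ Nat.card A) : False := by
  have hM := h.M0 x hx
  obtain ⟨t, ht, ht1⟩ : ∃ t ∈ A ⊓ cj x A, t ≠ 1 := by
    by_contra hcon
    push Not at hcon
    exact hM ((Subgroup.eq_bot_iff_forall _).2 hcon)
  have hsq : ∀ y ∈ A ⊓ cj x A, y * y = 1 := by
    intro y hy
    by_contra hcon
    have hy1 : y ≠ 1 := by
      rintro rfl
      exact hcon (one_mul 1)
    have := h1 (y * y) (mul_mem hy hy) y hy hcon hy1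
    exact hy1 (mul_eq_left.1 this)
  have hp2 : IsPGroup 2 ((A ⊓ cj x A).subgroupOf A) := by
    rintro ⟨⟨y, hyA⟩, hy⟩
    refine ⟨1, Subtype.ext (Subtype.ext ?_)⟩
    show y ^ (2 ^ 1) = 1
    rw [pow_one, pow_two]
    exact hsq y hy
  obtain ⟨S, hS⟩ := hp2.exists_le_sylow
  have hSe : (S : Subgroup A).map A.subtype = A ⊓ cj x A := by
    refine h.sylow hx Nat.prime_two (R := A ⊓ cj x A) ?_ hM ?_ ?_ ?_
    · intro y
      constructor
      · intro hy
        exact ⟨hy, 1, by rw [pow_one, pow_two, hsq y hy]⟩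
      · exact fun hy => hy.1
    · rintro _ ⟨y, _, rfl⟩
      exact y.2
    · exact S.2.map _
    · intro y hy
      exact ⟨⟨y, (mem_inf.1 hy).1⟩, hS (by exact hy), rfl⟩
  have hcardM : Nat.card (A ⊓ cj x A : Subgroup Q) ≤ 2 := by
    have h5 : ((A ⊓ cj x A : Subgroup Q) : Set Q) ⊆ {1, t} := by
      intro y hy
      by_cases hy1 : y = 1
      · exact Or.inl hy1
      · exact Or.inr (h1 y hy t ht hy1 ht1)
    calc Nat.card (A ⊓ cj x A : Subgroup Q) = ((A ⊓ cj x A : Subgroup Q) : Set Q).ncard := rfl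
      _ ≤ ({1, t} : Set Q).ncard := Set.ncard_le_ncard h5 (Set.toFinite _)
      _ ≤ 2 := by
        have := Set.ncard_insert_le (1 : Q) {t}
        rwa [Set.ncard_singleton] at this
  have hcardS : Nat.card S = Nat.card (A ⊓ cj x A : Subgroup Q) := by
    rw [← hSe]
    exact Nat.card_congr ((S : Subgroup A).equivMapOfInjective _ A.subtype_injective).toEquiv
  have h6 : 2 ^ 2 ∣ Nat.card S := S.pow_dvd_card_of_pow_dvd_card (by simpa using h4)
  have h7 := Nat.le_of_dvd Nat.card_pos h6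
  omega

end group

section form

variable {F : Type*} [Field F] {n : ℕ}

theorem bil_sim_iff (B : Matrix (Fin n) (Fin n) F) (g : GL (Fin n) F) :
    g ∈ Cfsg.Geo.similarityGroup (ι := Fin n) (bil B) ↔
      ∃ c : Fˣ, (g : Matrix (Fin n) (Fin n) F)ᵀ * B * g = (c : F) • B := by
  constructor
  · rintro ⟨c, hc⟩
    refine ⟨c, Matrix.ext fun i j => ?_⟩
    have := hc (Pi.single i 1) (Pi.single j 1)
    rw [bil_mulVec, bil_single, bil_single] at this
    rw [Matrix.smul_apply, smul_eq_mul]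
    exact this
  · rintro ⟨c, hc⟩
    refine ⟨c, fun u v => ?_⟩
    rw [bil_mulVec, hc, bil, bil, smul_mulVec, dotProduct_smul, smul_eq_mul]

theorem exists_gram (h2 : (2 : F) ≠ 0) {Qf : (Fin n → F) → F} (hQ : Cfsg.Geo.IsNondegenerateQuadraticForm Qf) :
    ∃ B : GL (Fin n) F, (B : Matrix (Fin n) (Fin n) F)ᵀ = B ∧
      Cfsg.Geo.quadSimilarityGroup Qf = Cfsg.Geo.similarityGroup (ι := Fin n) (bil (B : Matrix (Fin n) (Fin n) F)) := by
  let b : LinearMap.BilinForm F (Fin n → F) := LinearMap.mk₂ F (QuadraticMap.polar Qf) hQ.polar_bilinear.add_left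
    hQ.polar_bilinear.smul_left (fun v x y => hQ.polar_bilinear.add_right v x y)
    (fun c v x => hQ.polar_bilinear.smul_right c v x)
  let B : Matrix (Fin n) (Fin n) F := LinearMap.BilinForm.toMatrix' b
  have hBb : ∀ u v, bil B u v = QuadraticMap.polar Qf u v := by
    intro u v
    rw [bil_eq_toBilin]
    show Matrix.toBilin' (LinearMap.BilinForm.toMatrix' b) u v = _
    rw [Matrix.toBilin'_toMatrix']
    rfl
  have hBt : Bᵀ = B := by
    refine Matrix.ext fun i j => ?_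
    rw [transpose_apply, ← bil_single B j i, ← bil_single B i j, hBb, hBb, QuadraticMap.polar_comm]
  have hdet : B.det ≠ 0 := by
    rw [← Matrix.nondegenerate_iff_det_ne_zero]
    rw [Matrix.nondegenerate_def]
    constructor
    · intro v hv
      by_contra hv0
      obtain ⟨y, hy⟩ := (hQ.nondegenerate v hv0).2
      apply hy
      rw [← hBb]
      exact hv y
    · intro w hw
      by_contra hv0
      obtain ⟨y, hy⟩ := (hQ.nondegenerate w hv0).1
      apply hy
      rw [← hBb]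
      exact hw y
  refine ⟨Matrix.GeneralLinearGroup.mkOfDetNeZero B hdet, hBt, ?_⟩
  have hQv : ∀ v, bil B v v = 2 * Qf v := by
    intro v
    rw [hBb, QuadraticMap.polar]
    have : Qf (v + v) = 4 * Qf v := by
      have := hQ.smul 2 v
      rw [two_smul] at this
      rw [this]; ring
    rw [this]; ring
  exact (sim_eq_quad h2 hBt hQv).symm

end form

theorem congr_conj {F : Type*} [Field F] {n : ℕ} (Y : GL (Fin n) F) {G B : Matrix (Fin n) (Fin n) F} (ν : F)
    (h : ((Y : Matrix (Fin n) (Fin n) F) * G * ((Y⁻¹ : GL (Fin n) F) : Matrix (Fin n) (Fin n) F))ᵀ * B *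
      ((Y : Matrix (Fin n) (Fin n) F) * G * ((Y⁻¹ : GL (Fin n) F) : Matrix (Fin n) (Fin n) F)) = ν • B) :
    Gᵀ * ((Y : Matrix (Fin n) (Fin n) F)ᵀ * B * Y) * G = ν • ((Y : Matrix (Fin n) (Fin n) F)ᵀ * B * Y) := by
  have e2 : Gᵀ * ((Y : Matrix (Fin n) (Fin n) F)ᵀ * B * Y) * G =
      (Y : Matrix (Fin n) (Fin n) F)ᵀ * (((Y : Matrix (Fin n) (Fin n) F) * G *
        ((Y⁻¹ : GL (Fin n) F) : Matrix (Fin n) (Fin n) F))ᵀ * B * ((Y : Matrix (Fin n) (Fin n) F) * G *
        ((Y⁻¹ : GL (Fin n) F) : Matrix (Fin n) (Fin n) F))) * Y := by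
    rw [transpose_mul, transpose_mul]
    calc _ = (((Y⁻¹ : GL (Fin n) F) : Matrix (Fin n) (Fin n) F) * (Y : Matrix (Fin n) (Fin n) F))ᵀ * Gᵀ *
        ((Y : Matrix (Fin n) (Fin n) F)ᵀ * B * Y) * G *
        (((Y⁻¹ : GL (Fin n) F) : Matrix (Fin n) (Fin n) F) * (Y : Matrix (Fin n) (Fin n) F)) := by
          rw [inv_mul_val, transpose_one, Matrix.mul_one, Matrix.one_mul]
      _ = _ := by
        rw [transpose_mul]
        simp only [Matrix.mul_assoc]
  rw [e2, h, Matrix.mul_smul, Matrix.smul_mul]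

/-- **S3499-III-SL-C8O** -/
theorem c8o {Q : Type*} [Group Q] [Finite Q] (_hs : IsSimpleGroup Q) {A : Subgroup Q} {Γ : Subgroup (MulAut Q)}
    (h : EPT A Γ) {F : Type*} [Field F] [Fintype F] (hodd : Odd (Fintype.card F)) {n : ℕ} (hn : 3 ≤ n)
    (m : Cfsg.Agent.H419.EP.Model Q (Cfsg.Geo.specialLinear (Fin n) F)) {Qf : (Fin n → F) → F}
    (hQ : Cfsg.Geo.IsNondegenerateQuadraticForm Qf) (hA : m.hat A ≤ Cfsg.Geo.quadSimilarityGroup Qf) : False := by
  have h2 : (2 : F) ≠ 0 := two_ne hodd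
  obtain ⟨B, hB, hsim⟩ := exists_gram h2 hQ
  rw [hsim] at hA
  obtain ⟨Y, c, hYd, hY, hc, hpair⟩ := exists_pair hodd hn B hB
  have hBd := det_ne B
  -- membership in `SL`
  have hSL : ∀ g : GL (Fin n) F, g ∈ Cfsg.Geo.specialLinear (Fin n) F ↔ (g : Matrix (Fin n) (Fin n) F).det = 1 := by
    intro g
    show g ∈ (Matrix.GeneralLinearGroup.det : GL (Fin n) F →* Fˣ).ker ↔ _
    rw [MonoidHom.mem_ker, Units.ext_iff]
    rfl
  have hYS : Y ∈ Cfsg.Geo.specialLinear (Fin n) F := (hSL Y).2 hYd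
  have hYn : Y ∉ Cfsg.Geo.similarityGroup (ι := Fin n) (bil (B : Matrix (Fin n) (Fin n) F)) := by
    rw [bil_sim_iff]
    rintro ⟨μ, hμ⟩
    rw [hY] at hμ
    apply hc μ
    apply B.isUnit.mul_left_cancel
    rw [hμ, Matrix.mul_smul, Matrix.mul_one]
  -- the preimage of `A`
  have hAe : m.hat A = Cfsg.Geo.specialLinear (Fin n) F ⊓
      Cfsg.Geo.similarityGroup (ι := Fin n) (bil (B : Matrix (Fin n) (Fin n) F)) := by
    rcases (m.isMaximalIn h.max).2 _ (le_inf (m.hat_le A) hA) inf_le_left with h3 | h3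
    · exact h3.symm
    · exfalso
      apply hYn
      have : Y ∈ Cfsg.Geo.specialLinear (Fin n) F ⊓
        Cfsg.Geo.similarityGroup (ι := Fin n) (bil (B : Matrix (Fin n) (Fin n) F)) := by
        rw [h3]; exact hYS
      exact (mem_inf.1 this).2
  have hx : (m.π ⟨Y, hYS⟩)⁻¹ ∉ A := by
    intro e
    have h3 : m.π ⟨Y, hYS⟩ ∈ A := by simpa using A.inv_mem e
    have h4 := (m.mem_hat_iff ⟨Y, hYS⟩).2 h3
    exact hYn (hA h4)
  -- elements of `A ∩ A^x`
  have hM : ∀ g : Cfsg.Geo.specialLinear (Fin n) F, m.π g ∈ A ⊓ cj (m.π ⟨Y, hYS⟩)⁻¹ A →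
      (∃ μ : F, ((g : GL (Fin n) F) : Matrix (Fin n) (Fin n) F)ᵀ * B * (g : GL (Fin n) F) =
        μ • (B : Matrix (Fin n) (Fin n) F)) ∧
      (∃ ν : F, ((g : GL (Fin n) F) : Matrix (Fin n) (Fin n) F)ᵀ * (B * c) * (g : GL (Fin n) F) =
        ν • (B * c : Matrix (Fin n) (Fin n) F)) := by
    intro g hg
    obtain ⟨hg1, hg2⟩ := mem_inf.1 hg
    rw [mem_cj, inv_inv] at hg2
    have h3 := hA ((m.mem_hat_iff g).2 hg1)
    rw [bil_sim_iff] at h3
    obtain ⟨μ, hμ⟩ := h3
    refine ⟨⟨μ, hμ⟩, ?_⟩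
    rw [← map_mul, ← map_inv, ← map_mul] at hg2
    have h4 := hA ((m.mem_hat_iff _).2 hg2)
    rw [bil_sim_iff] at h4
    obtain ⟨ν, hν⟩ := h4
    refine ⟨ν, ?_⟩
    rw [← hY]
    have e1 : (((⟨Y, hYS⟩ * g * ⟨Y, hYS⟩⁻¹ : Cfsg.Geo.specialLinear (Fin n) F) : GL (Fin n) F) : Matrix (Fin n) (Fin n) F) =
        Y * (g : GL (Fin n) F) * ((Y⁻¹ : GL (Fin n) F) : Matrix (Fin n) (Fin n) F) := rfl
    rw [e1] at hν
    exact congr_conj Y _ hν

  -- scalar elements
  have hscal : ∀ g : Cfsg.Geo.specialLinear (Fin n) F, m.π g ≠ 1 →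
      ∀ r : F, ((g : GL (Fin n) F) : Matrix (Fin n) (Fin n) F) ≠ r • (1 : Matrix (Fin n) (Fin n) F) := by
    intro g hg r hr
    apply hg
    rw [m.ker, Cfsg.Geo.mem_scalars_iff]
    have hr0 : r ≠ 0 := by
      rintro rfl
      apply det_ne (g : GL (Fin n) F)
      have : Nonempty (Fin n) := ⟨⟨0, by omega⟩⟩
      rw [hr, zero_smul, det_zero]
    exact ⟨Units.mk0 r hr0, hr⟩
  refine kill_two h hx ?_ ?_
  · intro s hs t ht hs1 ht1
    obtain ⟨g, rfl⟩ := m.surj s
    obtain ⟨g', rfl⟩ := m.surj t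
    obtain ⟨r, hr⟩ := hpair g g' (hM g hs).1 (hM g hs).2 (hM g' ht).1 (hM g' ht).2 (hscal g hs1) (hscal g' ht1)
    symm
    rw [m.π_eq_iff]
    have hr0 : r ≠ 0 := by
      rintro rfl
      apply det_ne (g' : GL (Fin n) F)
      have : Nonempty (Fin n) := ⟨⟨0, by omega⟩⟩
      rw [hr, zero_smul, det_zero]
    refine ⟨Units.map (Matrix.scalar (Fin n) : F →+* Matrix (Fin n) (Fin n) F).toMonoidHom (Units.mk0 r hr0),
      ⟨_, rfl⟩, ?_⟩
    apply Units.ext
    rw [Units.val_mul, hr]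
    show r • _ = ((g : GL (Fin n) F) : Matrix (Fin n) (Fin n) F) * Matrix.scalar (Fin n) r
    rw [Matrix.scalar_apply, ← Matrix.smul_one_eq_diagonal, Matrix.mul_smul, Matrix.mul_one]
  · -- the four-group
    obtain ⟨T, d, hT⟩ : ∃ (T : GL (Fin n) F), ∃ d : Fin n → F, (T : Matrix (Fin n) (Fin n) F)ᵀ * B * T = diagonal d := by
      let d : Fin n → F := Function.update 1 ⟨0, by omega⟩ (B : Matrix (Fin n) (Fin n) F).det
      have hd : ∀ i, d i ≠ 0 := by
        intro i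
        by_cases hi : i = ⟨0, by omega⟩
        · subst hi
          simp only [d, Function.update_self]
          exact hBd
        · simp only [d, Function.update_of_ne hi, Pi.one_apply]
          exact one_ne_zero
      obtain ⟨T, hT⟩ := exists_diag h2 B hB d hd 1 (by
        simp only [d]
        rw [Finset.prod_update_of_mem (Finset.mem_univ _)]
        simp)
      exact ⟨T, d, hT⟩
    let ε : Fin n → Fin n → (Fin n → F) := fun i j k => if k = i ∨ k = j then -1 else 1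
    have hε : ∀ i j k, ε i j k * ε i j k = 1 := by
      intro i j k
      simp only [ε]
      split_ifs <;> ring
    have hεl : ∀ i j, ε i j i = -1 := fun i j => by simp [ε]
    have hεr : ∀ i j, ε i j j = -1 := fun i j => by simp [ε]
    have hεo : ∀ i j k, k ≠ i → k ≠ j → ε i j k = 1 := fun i j k h1 h3 => by simp [ε, h1, h3]
    have hprod : ∀ i j, i ≠ j → ∏ k, ε i j k = 1 := by
      intro i j hij
      simp only [ε]
      rw [Finset.prod_ite, Finset.prod_const, Finset.prod_const_one, mul_one]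
      have : Finset.univ.filter (fun k => k = i ∨ k = j) = {i, j} := by
        ext k; simp
      rw [this, Finset.card_pair hij]
      norm_num
    let E : ∀ i j : Fin n, GL (Fin n) F := fun i j => eT T (ε i j) (hε i j)
    have hES : ∀ i j, i ≠ j → E i j ∈ Cfsg.Geo.specialLinear (Fin n) F := by
      intro i j hij
      rw [hSL, det_eT, hprod i j hij]
    have hEA : ∀ i j (hij : i ≠ j), m.π ⟨E i j, hES i j hij⟩ ∈ A := by
      intro i j hij
      apply (m.mem_hat_iff _).1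
      rw [hAe]
      have h3 : (E i j : Matrix (Fin n) (Fin n) F)ᵀ * B * E i j = ((1 : Fˣ) : F) • (B : Matrix (Fin n) (Fin n) F) := by
        rw [Units.val_one, one_smul]
        exact eT_isom T hT (ε i j) (hε i j)
      exact ⟨hES i j hij, (bil_sim_iff _ _).2 ⟨1, h3⟩⟩
    have hne : (-1 : F) ≠ 1 := by
      intro e
      apply h2
      linear_combination -e
    have hE1 : ∀ i j (hij : i ≠ j), (∃ k, k ≠ i ∧ k ≠ j) → m.π ⟨E i j, hES i j hij⟩ ≠ 1 := by
      rintro i j hij ⟨k, hki, hkj⟩ e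
      rw [m.ker, Cfsg.Geo.mem_scalars_iff] at e
      obtain ⟨r, hr⟩ := e
      have h3 := eT_scalar T (ε i j) (hε i j) hr i
      have h4 := eT_scalar T (ε i j) (hε i j) hr k
      rw [hεl] at h3
      rw [hεo i j k hki hkj] at h4
      exact hne (h3.trans h4.symm)
    let i0 : Fin n := ⟨0, by omega⟩
    let i1 : Fin n := ⟨1, by omega⟩
    let i2 : Fin n := ⟨2, by omega⟩
    have h01 : i0 ≠ i1 := by simp [i0, i1]
    have h02 : i0 ≠ i2 := by simp [i0, i2]
    have h12 : i1 ≠ i2 := by simp [i1, i2]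
    have hsqE : ∀ i j (hij : i ≠ j), m.π ⟨E i j, hES i j hij⟩ * m.π ⟨E i j, hES i j hij⟩ = 1 := by
      intro i j hij
      rw [← map_mul, ← map_one m.π]
      congr 1
      exact Subtype.ext (eT_sq T (ε i j) (hε i j))
    refine four_dvd (a := (⟨_, hEA i0 i1 h01⟩ : A)) (b := ⟨_, hEA i0 i2 h02⟩) ?_ ?_ ?_ ?_ ?_ ?_
    · exact fun e => hE1 i0 i1 h01 ⟨i2, h02.symm, h12.symm⟩ (congrArg Subtype.val e)
    · exact fun e => hE1 i0 i2 h02 ⟨i1, h01.symm, h12⟩ (congrArg Subtype.val e)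
    · intro e
      have e' : m.π ⟨E i0 i1, hES i0 i1 h01⟩ = m.π ⟨E i0 i2, hES i0 i2 h02⟩ := congrArg Subtype.val e
      have h3 : m.π ⟨E i0 i1, hES i0 i1 h01⟩ * m.π ⟨E i0 i2, hES i0 i2 h02⟩ = 1 := by
        rw [e']
        exact hsqE i0 i2 h02
      rw [← map_mul, m.ker, Cfsg.Geo.mem_scalars_iff] at h3
      obtain ⟨r, hr⟩ := h3
      have hmul := eT_mul T (ε i0 i1) (ε i0 i2) (hε i0 i1) (hε i0 i2)
      have hr' : (eT T (fun k => ε i0 i1 k * ε i0 i2 k) (fun k => by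
          rw [show ε i0 i1 k * ε i0 i2 k * (ε i0 i1 k * ε i0 i2 k) = (ε i0 i1 k * ε i0 i1 k) * (ε i0 i2 k * ε i0 i2 k) by ring,
            hε, hε, one_mul]) : Matrix (Fin n) (Fin n) F) = (r : F) • (1 : Matrix (Fin n) (Fin n) F) := by
        rw [← hmul]
        exact hr
      have h5 := eT_scalar T _ _ hr' i0
      have h6 := eT_scalar T _ _ hr' i1
      rw [hεl, hεl] at h5
      rw [hεr, hεo i0 i2 i1 h01.symm h12] at h6
      apply hne
      linear_combination h6 - h5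
    · exact Subtype.ext (hsqE i0 i1 h01)
    · exact Subtype.ext (hsqE i0 i2 h02)
    · apply Subtype.ext
      show m.π ⟨E i0 i1, hES i0 i1 h01⟩ * m.π ⟨E i0 i2, hES i0 i2 h02⟩ =
        m.π ⟨E i0 i2, hES i0 i2 h02⟩ * m.π ⟨E i0 i1, hES i0 i1 h01⟩
      rw [← map_mul, ← map_mul]
      congr 1
      exact Subtype.ext (eT_comm T (ε i0 i1) (ε i0 i2) (hε i0 i1) (hε i0 i2))

end Cfsg.Agent.H72.EPX
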