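import Mathlib
import Cfsg.Agent.Lib.Zsigmondy

/-!
# Trace forms and an irreducible self-adjoint element of prime order (S3499, class 8, helper72)
-/

set_option autoImplicit false
set_option linter.unusedSectionVars false

namespace Cfsg.Agent.H72.EPX

open Matrix Module

section trace

variable {F : Type*} [Field F] {K : Type*} [Field K] [Algebra F K] [FiniteDimensional F K] {n : ℕ}
  (β : Basis (Fin n) F K)

/-- Gram matrix of `Tr (a v w)` -/
noncomputable def Gm (a : K) : Matrix (Fin n) (Fin n) F := Matrix.of fun i j => Algebra.trace F K (a * β i * β j)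

theorem Gm_apply (a : K) (i j : Fin n) : Gm β a i j = Algebra.trace F K (a * β i * β j) := rfl

theorem Gm_transpose (a : K) : (Gm β a)ᵀ = Gm β a := by
  ext i j
  rw [Matrix.transpose_apply, Gm_apply, Gm_apply]
  congr 1
  ring

theorem Gm_mul (a b : K) : Gm β a * Algebra.leftMulMatrix β b = Gm β (a * b) := by
  ext i j
  rw [Matrix.mul_apply, Gm_apply]
  simp only [Gm_apply, Algebra.leftMulMatrix_eq_repr_mul]
  have h1 : b * β j = ∑ k, β.repr (b * β j) k • β k := (β.sum_repr _).symm
  have h2 : a * b * β i * β j = ∑ k, β.repr (b * β j) k • (a * β i * β k) := by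
    rw [show a * b * β i * β j = a * β i * (b * β j) by ring]
    conv_lhs => rw [h1]
    rw [Finset.mul_sum]
    refine Finset.sum_congr rfl fun k _ => ?_
    rw [mul_smul_comm]
  rw [h2, map_sum]
  refine Finset.sum_congr rfl fun k _ => ?_
  rw [map_smul, smul_eq_mul, mul_comm]

theorem mul_Gm (a b : K) : (Algebra.leftMulMatrix β b)ᵀ * Gm β a = Gm β (a * b) := by
  rw [← Gm_transpose β a, ← Matrix.transpose_mul, Gm_mul, Gm_transpose]

theorem Gm_one : Gm β 1 = Algebra.traceMatrix F β := by
  ext i j
  rw [Gm_apply, one_mul, Algebra.traceMatrix_apply, Algebra.traceForm_apply]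

theorem det_Gm (a : K) : (Gm β a).det = (Gm β 1).det * Algebra.norm F a := by
  rw [Algebra.norm_eq_matrix_det β, ← Matrix.det_mul, Gm_mul, one_mul]

theorem det_Gm_one [Algebra.IsSeparable F K] : (Gm β 1).det ≠ 0 := by
  rw [Gm_one]
  exact Algebra.discr_not_zero_of_basis F β

theorem det_Gm_ne [Algebra.IsSeparable F K] {a : K} (ha : a ≠ 0) : (Gm β a).det ≠ 0 := by
  rw [det_Gm]
  exact mul_ne_zero (det_Gm_one β) (fun h => ha ((Algebra.norm_eq_zero_iff).1 h))

theorem Gm_injective [Algebra.IsSeparable F K] {a b : K} (h : Gm β a = Gm β b) : a = b := by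
  rw [← one_mul a, ← one_mul b, ← Gm_mul, ← Gm_mul] at h
  have h1 : IsUnit (Gm β 1).det := isUnit_iff_ne_zero.2 (det_Gm_one β)
  have h2 := congrArg (fun M => (Gm β 1)⁻¹ * M) h
  simp only [← Matrix.mul_assoc, Matrix.nonsing_inv_mul _ h1, Matrix.one_mul] at h2
  exact Algebra.leftMulMatrix_injective β h2

theorem Gm_smul (c : F) (a : K) : Gm β (c • a) = c • Gm β a := by
  ext i j
  rw [Matrix.smul_apply, Gm_apply, Gm_apply, smul_mul_assoc, smul_mul_assoc, map_smul]

/-- the commutant of `z` -/
theorem exists_of_comm {z : K} (hz : Algebra.adjoin F {z} = ⊤) {T : Matrix (Fin n) (Fin n) F}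
    (hT : T * Algebra.leftMulMatrix β z = Algebra.leftMulMatrix β z * T) :
    ∃ g : K, T = Algebra.leftMulMatrix β g := by
  have h1 : ∀ w : K, T * Algebra.leftMulMatrix β w = Algebra.leftMulMatrix β w * T := by
    intro w
    have hw : w ∈ Algebra.adjoin F {z} := by rw [hz]; trivial
    induction hw using Algebra.adjoin_induction with
    | mem x hx =>
      rw [Set.mem_singleton_iff] at hx
      rw [hx]
      exact hT
    | algebraMap r =>
      rw [AlgHom.commutes]
      exact (Algebra.commutes r T).symm
    | add x y _ _ hx hy => rw [map_add, mul_add, add_mul, hx, hy]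
    | mul x y _ _ hx hy => rw [map_mul, ← mul_assoc, hx, mul_assoc, hy, mul_assoc]
  obtain ⟨t, ht⟩ : ∃ t : K →ₗ[F] K, LinearMap.toMatrix β β t = T := ⟨Matrix.toLin β β T, LinearMap.toMatrix_toLin β β T⟩
  have h2 : ∀ w v : K, t (w * v) = w * t v := by
    intro w v
    have h3 := h1 w
    rw [← ht, Algebra.leftMulMatrix_apply, ← LinearMap.toMatrix_mul, ← LinearMap.toMatrix_mul] at h3
    have h4 := (LinearMap.toMatrix β β).injective h3
    have h5 := LinearMap.congr_fun h4 v
    exact h5
  refine ⟨t 1, ?_⟩
  rw [← ht, Algebra.leftMulMatrix_apply]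
  congr 1
  refine LinearMap.ext fun w => ?_
  have := h2 w 1
  rw [mul_one] at this
  rw [this, mul_comm]
  rfl

end trace

section finite

variable (F : Type*) [Field F] [Fintype F]

/-- an extension of degree `n` with an element of prime order generating it -/
theorem exists_field {n : ℕ} (hn : 3 ≤ n) (hodd : Odd (Fintype.card F)) :
    ∃ (K : Type) (_ : Field K) (_ : Algebra F K) (_ : FiniteDimensional F K) (_ : Finite K) (β : Basis (Fin n) F K)
      (z : K) (R : ℕ), R.Prime ∧ Algebra.adjoin F {z} = ⊤ ∧ z ^ R = 1 ∧ z ≠ 0 ∧ R.Coprime (Fintype.card F - 1) := by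
  obtain ⟨p, hp⟩ := CharP.exists F
  have hpp : Fact p.Prime := ⟨CharP.char_is_prime F p⟩
  have hn0 : NeZero n := ⟨by omega⟩
  have hq2 : 2 ≤ Fintype.card F := Fintype.one_lt_card
  obtain ⟨R, hR, hRn, -, hRq⟩ := Cfsg.Agent.Lib.Zsigmondy.exists_primitive hq2 (by omega : 2 ≤ n) (by omega) (by
    rintro ⟨h, -⟩
    rw [h] at hodd
    exact absurd hodd (by decide))
  let K := FiniteField.Extension F p n
  have hK : finrank F K = n := FiniteField.finrank_extension F p n
  have hcard : Nat.card K = Nat.card F ^ n := FiniteField.natCard_extension F p n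
  have hFc : Nat.card F = Fintype.card F := Nat.card_eq_fintype_card
  have hRK : R ∣ Nat.card Kˣ := by
    rw [Nat.card_units, hcard, hFc]
    exact (hRn n).2 dvd_rfl
  have := Fact.mk hR
  obtain ⟨z, hz⟩ := exists_prime_orderOf_dvd_card' R hRK
  have hcop : R.Coprime (Fintype.card F - 1) := by
    rw [hR.coprime_iff_not_dvd]
    intro h
    have h1 := (hRn 1).1 (by rwa [pow_one])
    have := Nat.le_of_dvd one_pos h1
    omega
  refine ⟨K, inferInstance, inferInstance, inferInstance, inferInstance, finBasisOfFinrankEq F K hK, z, R, hR, ?_, ?_,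
    z.ne_zero, hcop⟩
  · -- `z` generates
    have hL : IntermediateField.adjoin F {(z : K)} = ⊤ := by
      set L := IntermediateField.adjoin F {(z : K)} with hLd
      have hzL : (z : K) ∈ L := IntermediateField.mem_adjoin_simple_self F _
      have hfinL : Finite L := inferInstance
      have hfrL : Nat.card L = Nat.card F ^ finrank F L := Module.natCard_eq_pow_finrank
      have h1 : (⟨z, hzL⟩ : L) ^ (Nat.card L - 1) = 1 := by
        have : Fintype L := Fintype.ofFinite L
        rw [Nat.card_eq_fintype_card]
        exact FiniteField.pow_card_sub_one_eq_one _ (fun h => z.ne_zero (congrArg Subtype.val h))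
      have h2 : z ^ (Nat.card L - 1) = 1 := by
        apply Units.ext
        rw [Units.val_pow_eq_pow_val]
        exact congrArg Subtype.val h1
      have h3 := orderOf_dvd_of_pow_eq_one h2
      rw [hz, hfrL, hFc, hRn] at h3
      have h4 : finrank F L = n := by
        have h5 : 0 < finrank F L := finrank_pos
        have h6 := Nat.le_of_dvd h5 h3
        have h7 : finrank F L ≤ finrank F K := L.toSubalgebra.toSubmodule.finrank_le
        omega
      exact IntermediateField.eq_of_le_of_finrank_eq le_top (by rw [h4, IntermediateField.finrank_top', hK])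
    have h5 := IntermediateField.adjoin_simple_toSubalgebra_of_isAlgebraic (F := F) (α := (z : K))
      (Algebra.IsAlgebraic.isAlgebraic _)
    rw [hL] at h5
    rw [← h5]
    rfl
  · have := pow_orderOf_eq_one z
    rw [hz] at this
    have h1 := congrArg Units.val this
    rwa [Units.val_pow_eq_pow_val, Units.val_one] at h1

end finite

end Cfsg.Agent.H72.EPX
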